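import Mathlib

set_option autoImplicit false
namespace Groth.Agent.ZetaLib
open MvPolynomial

variable {k : Type*} [Field k]

/-- the constant exponent vector -/
noncomputable def cst (n c : ℕ) : Fin n →₀ ℕ := Finsupp.equivFunOnFinite.symm fun _ => c

@[simp] theorem cst_apply (n c : ℕ) (i : Fin n) : cst n c i = c := by simp [cst]

theorem coeff_pow_char_pow_sub_one (p : ℕ) [Fact p.Prime] [CharP k p] (n : ℕ)
    (f : MvPolynomial (Fin n) k) (hf : f.IsHomogeneous n) (e : ℕ) :
    coeff (cst n (p ^ e - 1)) (f ^ (p ^ e - 1)) =
      coeff (cst n (p - 1)) (f ^ (p - 1)) ^ ∑ i ∈ Finset.range e, p ^ i := by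
  classical
  have hp := (Fact.out : p.Prime)
  induction e with
  | zero =>
    have : cst n 0 = 0 := by ext i; simp
    simp [this]
  | succ e ih =>
    have hpow : p ^ (e + 1) - 1 = (p - 1) + (p ^ e - 1) * p := by
      have h1 : 1 ≤ p ^ e := Nat.one_le_pow _ _ hp.pos
      have h2 : p ≤ p ^ e * p := Nat.le_mul_of_pos_left _ h1
      rw [pow_succ, Nat.sub_mul, one_mul]; have := hp.pos; omega
    haveI : ExpChar k p := ExpChar.prime hp
    rw [hpow, pow_add, pow_mul, ← map_frobenius_expand p (f := f ^ (p ^ e - 1)), coeff_mul,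
      Finset.sum_eq_single (cst n (p - 1), p • cst n (p ^ e - 1))]
    · rw [coeff_map, coeff_expand_smul p hp.ne_zero, ih, frobenius_def, ← pow_mul,
        Finset.sum_range_succ', pow_zero, pow_add, pow_one, Finset.sum_mul]
      simp only [pow_succ]; ring
    · rintro ⟨a, b⟩ hab hne
      rw [Finset.HasAntidiagonal.mem_antidiagonal] at hab
      by_contra h0
      obtain ⟨ha, hb⟩ : coeff a (f ^ (p - 1)) ≠ 0 ∧
          coeff b (expand p (f ^ (p ^ e - 1))) ≠ 0 := by
        refine ⟨fun h => h0 (by simp [h]), fun h => h0 ?_⟩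
        rw [coeff_map, h, map_zero, mul_zero]
      have hdvd : ∀ i, p ∣ b i := fun i => by
        by_contra hd; exact hb (coeff_expand_of_not_dvd _ hd)
      have hge : ∀ i, p - 1 ≤ a i := fun i => by
        have h := DFunLike.congr_fun hab i
        simp only [Finsupp.add_apply, cst_apply] at h
        obtain ⟨t, ht⟩ := hdvd i
        rw [ht] at h
        rcases Nat.lt_or_ge (a i) (p - 1) with hlt | hge
        · exfalso
          have h2 := hp.two_le
          rcases Nat.lt_trichotomy t (p ^ e - 1) with h' | h' | h'
          · have : p * (t + 1) ≤ (p ^ e - 1) * p := by rw [mul_comm p]; exact Nat.mul_le_mul_right p h'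
            rw [mul_add] at this; omega
          · rw [h', mul_comm] at h; omega
          · have : (p ^ e - 1 + 1) * p ≤ p * t := by rw [mul_comm p]; exact Nat.mul_le_mul_right p h'
            rw [add_mul] at this; omega
        · exact hge
      have hdeg : ∑ i, a i = ∑ _i : Fin n, (p - 1) := by
        have := (hf.pow (p - 1)) ha
        rw [Finsupp.weight_apply, Finsupp.sum_fintype _ _ (by simp)] at this
        simpa [mul_comm] using this
      have hae : ∀ i, a i = p - 1 := fun i =>
        ((Finset.sum_eq_sum_iff_of_le (fun i _ => hge i)).1 hdeg.symm i (Finset.mem_univ i)).symm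
      refine hne (Prod.ext (Finsupp.ext fun i => by simp [hae]) (Finsupp.ext fun i => ?_))
      have h := DFunLike.congr_fun hab i
      simp only [Finsupp.add_apply, cst_apply, hae] at h
      simp only [Finsupp.smul_apply, cst_apply, smul_eq_mul]
      rw [mul_comm]; omega
    · intro h
      refine absurd (Finset.HasAntidiagonal.mem_antidiagonal.2 (Finsupp.ext fun i => ?_)) h
      simp only [Finsupp.add_apply, Finsupp.smul_apply, cst_apply, smul_eq_mul]
      ring

end Groth.Agent.ZetaLib
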